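import Mathlib

/-!
Pairs of involutions, and conjugacy classes as coset spaces of centralizers.
-/

set_option autoImplicit false

namespace CfsgLib.BenderCount

variable {G : Type*} [Group G] [Finite G]

theorem mul_self_of_orderOf {a : G} (h : orderOf a = 2) : a * a = 1 := by
  have := pow_orderOf_eq_one a
  rwa [h, pow_two] at this

theorem inv_of_orderOf {a : G} (h : orderOf a = 2) : a⁻¹ = a :=
  inv_eq_of_mul_eq_one_right (mul_self_of_orderOf h)

omit [Finite G] in
theorem conj_pow_mul {a b : G} (ha : a * a = 1) (hb : b * b = 1) :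
    ∀ n : ℕ, a * (a * b) ^ n * a = ((a * b) ^ n)⁻¹ := by
  intro n
  induction n with
  | zero => simp [ha]
  | succ n ih =>
    calc a * (a * b) ^ (n + 1) * a
        = a * (a * b) * (a * a) * ((a * b) ^ n * a) := by simp [pow_succ', ha, mul_assoc]
      _ = a * (a * b) * a * (a * (a * b) ^ n * a) := by group
      _ = (a * a) * b * a * ((a * b) ^ n)⁻¹ := by rw [ih]; group
      _ = b⁻¹ * a⁻¹ * ((a * b) ^ n)⁻¹ := by
          rw [ha, one_mul, inv_eq_of_mul_eq_one_left hb, inv_eq_of_mul_eq_one_left ha]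
      _ = ((a * b) ^ (n + 1))⁻¹ := by rw [pow_succ]; group

/-- Two involutions commute with a common involution, or are conjugate by an element of the
subgroup they generate. -/
theorem exists_comm_or_conj {a b : G} (ha : orderOf a = 2) (hb : orderOf b = 2) :
    (∃ z : G, orderOf z = 2 ∧ z * a = a * z ∧ z * b = b * z) ∨
      ∃ h ∈ Subgroup.closure ({a, b} : Set G), h * a * h⁻¹ = b := by
  have ha' := mul_self_of_orderOf ha
  have hb' := mul_self_of_orderOf hb
  rcases Nat.even_or_odd' (orderOf (a * b)) with ⟨k, hk | hk⟩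
  · left
    have hkpos : 0 < k := by have := orderOf_pos (a * b); omega
    refine ⟨(a * b) ^ k, ?_, ?_, ?_⟩
    · rw [orderOf_pow' _ hkpos.ne', hk, Nat.gcd_eq_right (Dvd.intro_left 2 rfl),
        Nat.mul_div_cancel _ hkpos]
    all_goals
      have hz : ((a * b) ^ k)⁻¹ = (a * b) ^ k := by
        rw [inv_eq_iff_mul_eq_one, ← pow_add, ← two_mul, ← hk, pow_orderOf_eq_one]
      have hca : (a * b) ^ k * a = a * (a * b) ^ k := by
        have h1 := conj_pow_mul ha' hb' k
        rw [hz] at h1
        calc (a * b) ^ k * a = a * (a * b) ^ k * a * a := by rw [h1]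
          _ = a * (a * b) ^ k := by rw [mul_assoc, ha', mul_one]
    · exact hca
    · have hab : (a * b) ^ k * (a * b) = (a * b) * (a * b) ^ k := by rw [← pow_succ, ← pow_succ']
      calc (a * b) ^ k * b = (a * b) ^ k * (a * (a * b)) := by rw [← mul_assoc a, ha', one_mul]
        _ = a * ((a * b) ^ k * (a * b)) := by rw [← mul_assoc ((a * b) ^ k), hca, mul_assoc]
        _ = a * ((a * b) * (a * b) ^ k) := by rw [hab]
        _ = b * (a * b) ^ k := by rw [← mul_assoc a (a * b), ← mul_assoc a a, ha', one_mul]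
  · right
    refine ⟨((a * b) ^ (k + 1))⁻¹, inv_mem (pow_mem (mul_mem (Subgroup.subset_closure (by simp))
      (Subgroup.subset_closure (by simp))) _), ?_⟩
    rw [inv_inv, ← conj_pow_mul ha' hb']
    calc a * (a * b) ^ (k + 1) * a * a * (a * b) ^ (k + 1)
        = a * (a * b) ^ (k + 1) * (a * a) * (a * b) ^ (k + 1) := by group
      _ = a * (a * b) ^ (orderOf (a * b) + 1) := by
          rw [ha', mul_one, mul_assoc, ← pow_add, hk]; congr 2; omega
      _ = b := by rw [pow_succ, pow_orderOf_eq_one, one_mul, ← mul_assoc, ha', one_mul]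

/-- A conjugacy class has as many elements as the centralizer has cosets. -/
theorem card_class (a : G) :
    Nat.card {t : G // IsConj a t} = (Subgroup.centralizer ({a} : Set G)).index := by
  let f : G ⧸ Subgroup.centralizer ({a} : Set G) → {t : G // IsConj a t} :=
    Quotient.lift (fun g => ⟨g * a * g⁻¹, isConj_iff.2 ⟨g, rfl⟩⟩) fun g h hgh => Subtype.ext (by
      have := Subgroup.mem_centralizer_singleton_iff.1 (QuotientGroup.leftRel_apply.1 hgh)
      calc g * a * g⁻¹ = g * (a * (g⁻¹ * h)) * h⁻¹ := by group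
        _ = g * ((g⁻¹ * h) * a) * h⁻¹ := by rw [this]
        _ = h * a * h⁻¹ := by group)
  refine (Nat.card_congr (Equiv.ofBijective f ⟨?_, ?_⟩)).symm
  · refine Quotient.ind₂ fun g h hgh => Quotient.sound (QuotientGroup.leftRel_apply.2 ?_)
    have h1 : g * a * g⁻¹ = h * a * h⁻¹ := congrArg Subtype.val hgh
    rw [Subgroup.mem_centralizer_singleton_iff]
    calc g⁻¹ * h * a = g⁻¹ * (h * a * h⁻¹) * h := by group
      _ = g⁻¹ * (g * a * g⁻¹) * h := by rw [h1]
      _ = a * (g⁻¹ * h) := by group
  · rintro ⟨t, ht⟩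
    obtain ⟨g, rfl⟩ := isConj_iff.1 ht
    exact ⟨(g : G ⧸ Subgroup.centralizer ({a} : Set G)), rfl⟩

end CfsgLib.BenderCount
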